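import Groth.Agent.S0307
import Groth.Agent.S0304
import Mathlib.RingTheory.HopkinsLevitzki
import Mathlib.RingTheory.Localization.Module
import Mathlib.Algebra.Category.ModuleCat.FilteredColimits

/-!
# Injective modules over Noetherian rings are unions of modules finite over Artinian algebras
-/

set_option autoImplicit false
universe u

open CategoryTheory CategoryTheory.Limits

namespace Groth.Agent.InjArtColim

variable {A : Type u} [CommRing A]

/-- Being a finite module over some Artinian algebra. -/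
def IsArtFinite (A : Type u) [CommRing A] (N : Type u) [AddCommGroup N] [Module A N] : Prop :=
  ∃ (B : Type u) (_ : CommRing B) (_ : Algebra A B) (_ : IsArtinianRing B)
    (_ : Module B N) (_ : IsScalarTower A B N), Module.Finite B N

lemma IsArtFinite.congr {N N' : Type u} [AddCommGroup N] [Module A N] [AddCommGroup N'] [Module A N']
    (h : IsArtFinite A N) (e : N ≃ₗ[A] N') : IsArtFinite A N' := by
  obtain ⟨B, _, _, _, mB, tB, hfin⟩ := h
  letI : Module B N' := e.toAddEquiv.symm.module B
  let e' : N ≃ₗ[B] N' := (AddEquiv.linearEquiv B e.toAddEquiv.symm).symm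
  haveI : IsScalarTower A B N' := .of_algebraMap_smul fun a y => by
    have h1 : algebraMap A B a • y = e (algebraMap A B a • e.symm y) := rfl
    rw [h1, algebraMap_smul, map_smul, LinearEquiv.apply_symm_apply]
  exact ⟨B, inferInstance, inferInstance, inferInstance, inferInstance, inferInstance,
    Module.Finite.equiv e'⟩

lemma IsArtFinite.pi {ι : Type u} [Finite ι] (N : ι → Type u) [∀ i, AddCommGroup (N i)]
    [∀ i, Module A (N i)] (h : ∀ i, IsArtFinite A (N i)) : IsArtFinite A (∀ i, N i) := by
  classical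
  choose B i1 i2 i3 i4 i5 i6 using h
  haveI : IsScalarTower A (∀ i, B i) (∀ i, N i) := .of_algebraMap_smul fun a x => by
    funext i
    exact algebraMap_smul (B i) a (x i)
  haveI : Fintype ι := Fintype.ofFinite ι
  refine ⟨∀ i, B i, inferInstance, inferInstance, inferInstance, inferInstance, inferInstance, ⟨?_⟩⟩
  choose S hS using fun i => (i6 i).fg_top
  refine Submodule.fg_def.2 ⟨⋃ i, (Pi.single i) '' (S i : Set (N i)),
    Set.finite_iUnion fun i => (S i).finite_toSet.image _, ?_⟩
  rw [eq_top_iff]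
  intro x _
  rw [← Finset.univ_sum_single x]
  refine Submodule.sum_mem _ fun i _ => ?_
  have hx : x i ∈ Submodule.span (B i) (S i : Set (N i)) := by rw [hS i]; exact Submodule.mem_top
  generalize x i = z at hx ⊢
  induction hx using Submodule.span_induction with
  | mem y hy => exact Submodule.subset_span (Set.mem_iUnion.2 ⟨i, y, hy, rfl⟩)
  | zero => rw [Pi.single_zero]; exact zero_mem _
  | add y z _ _ hy hz => rw [Pi.single_add]; exact add_mem hy hz
  | smul b y _ hy =>
    convert Submodule.smul_mem _ (Pi.single i b : ∀ i, B i) hy using 1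
    funext j
    by_cases hj : j = i
    · subst hj; simp [Pi.smul_apply']
    · simp [Pi.smul_apply', hj]

variable [IsNoetherianRing A]

lemma isArtFinite_localized (p : Ideal A) [p.IsPrime] {W : Type u} [AddCommGroup W] [Module A W]
    [Module.Finite A W] (n : ℕ) (hn : ∀ a ∈ p ^ n, ∀ w : W, a • w = 0) :
    IsArtFinite A (LocalizedModule p.primeCompl W) := by
  let R := Localization.AtPrime p
  let I : Ideal R := IsLocalRing.maximalIdeal R ^ n
  haveI : IsArtinianRing (R ⧸ I) := isArtinianRing_iff_isNoetherianRing_krullDimLE_zero.2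
    ⟨inferInstance, Ring.krullDimLE_zero_iff.2 fun q hq => by
      have hq' : (q.comap (Ideal.Quotient.mk I)).IsPrime := Ideal.comap_isPrime _ q
      have hle : I ≤ q.comap (Ideal.Quotient.mk I) := fun x hx => by
        rw [Ideal.mem_comap, Ideal.Quotient.eq_zero_iff_mem.2 hx]; exact zero_mem q
      have hm : IsLocalRing.maximalIdeal R ≤ q.comap (Ideal.Quotient.mk I) := hq'.le_of_pow_le hle
      haveI : (q.comap (Ideal.Quotient.mk I)).IsMaximal := by
        rw [← (IsLocalRing.maximalIdeal.isMaximal R).eq_of_le hq'.ne_top hm]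
        infer_instance
      rw [← Ideal.map_comap_of_surjective (Ideal.Quotient.mk I) Ideal.Quotient.mk_surjective q]
      exact Ideal.IsMaximal.map_of_surjective_of_ker_le Ideal.Quotient.mk_surjective (by rwa [Ideal.mk_ker])⟩
  have hI : Module.IsTorsionBySet R (LocalizedModule p.primeCompl W) (I : Set R) := by
    intro y ⟨r, hr⟩
    change r • y = 0
    rw [SetLike.mem_coe, show I = (p ^ n).map (algebraMap A R) by
      rw [Ideal.map_pow, Localization.AtPrime.map_eq_maximalIdeal]] at hr
    induction hr using Submodule.span_induction with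
    | mem b hb =>
      obtain ⟨a, ha, rfl⟩ := hb
      induction y using LocalizedModule.induction_on with
      | h w t =>
        rw [algebraMap_smul, LocalizedModule.smul'_mk, hn a ha, LocalizedModule.zero_mk]
    | zero => exact zero_smul _ y
    | add b c _ _ hb hc => rw [add_smul, hb, hc, add_zero]
    | smul c b _ hb => rw [smul_eq_mul, mul_smul, hb, smul_zero]
  letI := hI.module
  haveI : IsScalarTower R (R ⧸ I) (LocalizedModule p.primeCompl W) := hI.isScalarTower
  haveI : IsScalarTower A (R ⧸ I) (LocalizedModule p.primeCompl W) := .of_algebraMap_smul fun a y => by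
    rw [IsScalarTower.algebraMap_apply A R (R ⧸ I), algebraMap_smul, algebraMap_smul]
  haveI : Module.Finite R (LocalizedModule p.primeCompl W) :=
    Module.Finite.of_isLocalizedModule p.primeCompl (LocalizedModule.mkLinearMap p.primeCompl W)
  exact ⟨R ⧸ I, inferInstance, inferInstance, inferInstance, inferInstance, inferInstance,
    Module.Finite.of_restrictScalars_finite R (R ⧸ I) _⟩

lemma smul_bijective {E : Type u} [AddCommGroup E] [Module A E] (hE : InjHull.IsIndecomposable A E)
    (hinj : Module.Injective A E) (s : A) (hs : ∀ x : E, s • x = 0 → x = 0) :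
    Function.Bijective (fun x : E => s • x) := by
  haveI := hinj
  haveI := hE.1
  let f : E →ₗ[A] E := s • LinearMap.id
  have hf : Function.Injective f := (injective_iff_map_eq_zero f).2 hs
  obtain ⟨C, hC⟩ := InjHullBasic.exists_isCompl_range hinj hf
  refine ⟨hf, fun y => ?_⟩
  rcases hE.2 _ C hC with h | h
  · exfalso
    obtain ⟨x, hx⟩ := exists_ne (0 : E)
    exact hx (hf (((Submodule.mem_bot A).1 (h ▸ LinearMap.mem_range_self f x)).trans (map_zero f).symm))
  · have h1 := hC.sup_eq_top
    rw [h, sup_bot_eq] at h1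
    exact LinearMap.mem_range.1 (h1 ▸ Submodule.mem_top)

lemma exists_pow_smul_eq_zero {E : Type u} [AddCommGroup E] [Module A E]
    (hmeet : ∀ N N' : Submodule A E, N ≠ ⊥ → N' ≠ ⊥ → N ⊓ N' ≠ ⊥) {a : A}
    (ha : ∃ z : E, z ≠ 0 ∧ a • z = 0) (x : E) : ∃ n : ℕ, a ^ n • x = 0 := by
  by_contra hcon
  push_neg at hcon
  obtain ⟨z, hz, haz⟩ := ha
  let X : Submodule A E := A ∙ x
  let K : ℕ →o Submodule A X :=
    ⟨fun n => LinearMap.ker ((a ^ n : A) • (LinearMap.id : X →ₗ[A] X)), fun m n hmn y hy => by
      obtain ⟨d, rfl⟩ := Nat.exists_eq_add_of_le hmn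
      simp only [LinearMap.mem_ker, LinearMap.smul_apply, LinearMap.id_apply] at hy ⊢
      rw [pow_add, mul_comm, mul_smul, hy, smul_zero]⟩
  obtain ⟨n, hn⟩ := monotone_stabilizes_iff_noetherian.2 inferInstance K
  obtain ⟨y, ⟨hyz, hyx⟩, hy0⟩ := (Submodule.ne_bot_iff _).1 (hmeet (A ∙ z) (A ∙ (a ^ n • x))
    (by simpa using hz) (by simpa using hcon n))
  obtain ⟨c, rfl⟩ := Submodule.mem_span_singleton.1 hyx
  obtain ⟨d, hd⟩ := Submodule.mem_span_singleton.1 hyz
  have h1 : a • (c • a ^ n • x) = 0 := by rw [← hd, smul_comm, haz, smul_zero]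
  have h2 : (⟨c • x, X.smul_mem c (Submodule.mem_span_singleton_self x)⟩ : X) ∈ K (n + 1) := by
    refine Subtype.ext ?_
    change a ^ (n + 1) • (c • x) = 0
    rw [← h1, pow_succ', mul_smul, smul_comm c (a ^ n) x]
  rw [← hn (n + 1) (Nat.le_succ n)] at h2
  have h3 : a ^ n • (c • x) = 0 := congrArg Subtype.val h2
  exact hy0 (by rw [smul_comm]; exact h3)

lemma isArtFinite_saturation {J : Type u} [AddCommGroup J] [Module A J] (E : Submodule A J) (p : Ideal A)
    [p.IsPrime] (hbij : ∀ s, s ∉ p → Function.Bijective (fun x : E => s • x))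
    (hnil : ∀ a ∈ p, ∀ x : E, ∃ n : ℕ, a ^ n • x = 0) (W : Submodule A E) (hW : W.FG)
    (N : Submodule A E) (hN : ∀ x, x ∈ N ↔ ∃ s, s ∉ p ∧ s • x ∈ W) : IsArtFinite A N := by
  haveI : Module.Finite A W := Module.Finite.iff_fg.2 hW
  have hrad : p ≤ (Module.annihilator A W).radical := fun a ha => by
    obtain ⟨S, hS⟩ := hW
    choose k hk using hnil a ha
    refine ⟨S.sup k, Module.mem_annihilator.2 fun w => Subtype.ext ?_⟩
    change a ^ S.sup k • (w : E) = 0
    have hw : (w : E) ∈ Submodule.span A (S : Set E) := hS ▸ w.2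
    generalize (w : E) = z at hw ⊢
    induction hw using Submodule.span_induction with
    | mem y hy =>
      obtain ⟨d, hd⟩ := Nat.exists_eq_add_of_le (Finset.le_sup (f := k) hy)
      rw [hd, pow_add, mul_comm, mul_smul, hk, smul_zero]
    | zero => exact smul_zero _
    | add y z _ _ hy hz => rw [smul_add, hy, hz, add_zero]
    | smul c y _ hy => rw [smul_comm, hy, smul_zero]
  obtain ⟨n, hn⟩ := Ideal.exists_pow_le_of_le_radical_of_fg hrad (IsNoetherian.noetherian p)
  have hWN : W ≤ N := fun x hx => (hN x).2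
    ⟨1, fun h => ‹p.IsPrime›.ne_top ((Ideal.eq_top_iff_one p).2 h), by rwa [one_smul]⟩
  haveI : IsLocalizedModule p.primeCompl (Submodule.inclusion hWN) := by
    refine ⟨fun s => (Module.End.isUnit_iff _).2 ⟨fun y z h => Subtype.ext
      ((hbij s s.2).1 (congrArg Subtype.val h)), fun y => ?_⟩, fun y => ?_, fun {y z} h => ?_⟩
    · obtain ⟨x, hx⟩ := (hbij s s.2).2 (y : E)
      obtain ⟨t, ht, hty⟩ := (hN _).1 y.2
      refine ⟨⟨x, (hN x).2 ⟨t * s, p.primeCompl.mul_mem ht s.2, ?_⟩⟩, Subtype.ext hx⟩
      have hx' : (s : A) • x = (y : E) := hx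
      rwa [mul_smul, hx']
    · obtain ⟨t, ht, hty⟩ := (hN _).1 y.2
      exact ⟨(⟨t • (y : E), hty⟩, ⟨t, ht⟩), rfl⟩
    · exact ⟨1, by rw [Submodule.inclusion_injective hWN h]⟩
  exact (isArtFinite_localized p n fun a ha w => Module.mem_annihilator.1 (hn ha) w).congr
    (IsLocalizedModule.iso p.primeCompl (Submodule.inclusion hWN))

omit [IsNoetherianRing A] in
/-- A directed union of submodules is a filtered colimit. -/
lemma exists_colimit_of_monotone {J : Type u} [AddCommGroup J] [Module A J] (ι : Type u) [SemilatticeSup ι]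
    [Nonempty ι] (K : ι → Submodule A J) (hmono : Monotone K) (hcov : ∀ x : J, ∃ q, x ∈ K q)
    (hart : ∀ q, IsArtFinite A (K q)) :
    ∃ (ι : Type u) (_ : SmallCategory ι) (_ : IsFiltered ι) (D : ι ⥤ ModuleCat.{u} A)
      (c : Cocone D) (_ : IsColimit c), Nonempty (c.pt ≅ ModuleCat.of A J) ∧
      ∀ i : ι, IsArtFinite A (D.obj i) := by
  let D : ι ⥤ ModuleCat.{u} A :=
    { obj := fun q => ModuleCat.of A (K q)
      map := fun h => ModuleCat.ofHom (Submodule.inclusion (hmono h.le))
      map_id := fun q => rfl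
      map_comp := fun f g => rfl }
  let c : Cocone D :=
    { pt := ModuleCat.of A J
      ι := { app := fun q => ModuleCat.ofHom (K q).subtype, naturality := fun q r f => rfl } }
  refine ⟨ι, inferInstance, inferInstance, D, c,
    isColimitOfReflects (forget (ModuleCat.{u} A)) ?_, ⟨Iso.refl _⟩, hart⟩
  refine Types.FilteredColimit.isColimitOf _ _ (fun x => ?_) fun q r xq xr h => ?_
  · obtain ⟨q, hq⟩ := hcov x
    exact ⟨q, ⟨x, hq⟩, rfl⟩
  · exact ⟨q ⊔ r, homOfLE le_sup_left, homOfLE le_sup_right, Subtype.ext h⟩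

theorem exists_filtered_colimit (J : Type u) [AddCommGroup J] [Module A J] (hJ : Module.Injective A J) :
    ∃ (ι : Type u) (_ : SmallCategory ι) (_ : IsFiltered ι) (D : ι ⥤ ModuleCat.{u} A)
      (c : Cocone D) (_ : IsColimit c), Nonempty (c.pt ≅ ModuleCat.of A J) ∧
      ∀ i : ι, IsArtFinite A (D.obj i) := by
  classical
  obtain ⟨I, E, hint, hE⟩ := S0307.result A J hJ
  have h4 := fun i => S0304.result A (E i) (hE i).1 (hE i).2
  choose hmeet p hp hpset using h4
  have hinjp : ∀ i, ∀ s, s ∉ p i → ∀ x : E i, s • x = 0 → x = 0 := fun i s hs x hx => by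
    by_contra h0
    exact hs (show s ∈ (p i : Set A) from (hpset i) ▸ (⟨x, h0, hx⟩ : ∃ x : E i, x ≠ 0 ∧ s • x = 0))
  have hbij : ∀ i, ∀ s, s ∉ p i → Function.Bijective (fun x : E i => s • x) := fun i s hs =>
    smul_bijective (hE i).1 (hE i).2 s (hinjp i s hs)
  have hnil : ∀ i, ∀ a ∈ p i, ∀ x : E i, ∃ n : ℕ, a ^ n • x = 0 := fun i a ha =>
    exists_pow_smul_eq_zero (hmeet i) (show a ∈ {r : A | ∃ x : E i, x ≠ 0 ∧ r • x = 0} from hpset i ▸ ha)
  let W : ∀ i, Finset J → Submodule A (E i) := fun i T =>
    Submodule.span A (Subtype.val ⁻¹' (T : Set J))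
  let sat : ∀ i, Finset J → Submodule A (E i) := fun i T =>
    { carrier := {x | ∃ s, s ∉ p i ∧ s • x ∈ W i T}
      add_mem' := by
        rintro x y ⟨s, hs, hx⟩ ⟨t, ht, hy⟩
        haveI := hp i
        refine ⟨s * t, (p i).primeCompl.mul_mem hs ht, ?_⟩
        rw [smul_add]
        exact add_mem (by rw [mul_comm, mul_smul]; exact Submodule.smul_mem _ t hx)
          (by rw [mul_smul]; exact Submodule.smul_mem _ s hy)
      zero_mem' := ⟨1, fun h => (hp i).ne_top ((Ideal.eq_top_iff_one _).2 h), by rw [smul_zero]; exact zero_mem _⟩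
      smul_mem' := by
        rintro c x ⟨s, hs, hx⟩
        exact ⟨s, hs, by rw [smul_comm]; exact Submodule.smul_mem _ c hx⟩ }
  let K : Finset (I ⊕ J) → Submodule A J := fun q => ⨆ i ∈ q.toLeft, (sat i q.toRight).map (E i).subtype
  have hmono : Monotone K := fun q r hqr => iSup₂_le fun i hi => le_trans (Submodule.map_mono (by
    rintro x ⟨s, hs, hx⟩
    exact ⟨s, hs, Submodule.span_mono (Set.preimage_mono (Finset.coe_subset.2 (Finset.toRight_subset_toRight hqr))) hx⟩))
      (le_iSup₂_of_le i (Finset.toLeft_subset_toLeft hqr hi) le_rfl)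
  have hcov : ∀ x : J, ∃ q, x ∈ K q := fun x => by
    have hx : x ∈ ⨆ i, E i := by rw [hint.submodule_iSup_eq_top]; exact Submodule.mem_top
    induction hx using Submodule.iSup_induction' with
    | mem i y hy =>
      refine ⟨{Sum.inl i, Sum.inr y}, Submodule.mem_iSup_of_mem i (Submodule.mem_iSup_of_mem (by simp)
        ⟨⟨y, hy⟩, ⟨1, fun h => (hp i).ne_top ((Ideal.eq_top_iff_one _).2 h), ?_⟩, rfl⟩)⟩
      rw [one_smul]
      exact Submodule.subset_span (by simp)
    | zero => exact ⟨∅, zero_mem _⟩
    | add y z _ _ hy hz =>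
      obtain ⟨q, hq⟩ := hy
      obtain ⟨r, hr⟩ := hz
      exact ⟨q ⊔ r, add_mem (hmono le_sup_left hq) (hmono le_sup_right hr)⟩
  have hart : ∀ q, IsArtFinite A (K q) := fun q => by
    haveI : ∀ i, (p i).IsPrime := hp
    have hfin : ∀ i, (W i q.toRight).FG := fun i =>
      Submodule.fg_span (q.toRight.finite_toSet.preimage Subtype.val_injective.injOn)
    have h1 := IsArtFinite.pi (fun i : q.toLeft => ↥((sat i q.toRight).map (E i).subtype)) fun i =>
      (isArtFinite_saturation (E i) (p i) (hbij i) (hnil i) (W i q.toRight) (hfin i) (sat i q.toRight)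
        fun x => Iff.rfl).congr ((E i).equivSubtypeMap (sat i q.toRight))
    let Φ := LinearMap.lsum A (fun i : q.toLeft => ↥((sat i q.toRight).map (E i).subtype)) A
      (fun i => ((sat i q.toRight).map (E i).subtype).subtype)
    have hind : iSupIndep fun i : q.toLeft => (sat i q.toRight).map (E i).subtype :=
      (hint.submodule_iSupIndep.comp Subtype.val_injective).mono fun i => Submodule.map_subtype_le _ _
    have hΦ : Function.Injective Φ := by
      have h2 := hind.dfinsupp_lsum_injective
      have h3 : ∀ f, Φ f = DFinsupp.lsum ℕ (fun i : q.toLeft => ((sat i q.toRight).map (E i).subtype).subtype)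
          ((DFinsupp.linearEquivFunOnFintype (R := A)).symm f) := fun f => by
        rw [DFinsupp.lsum_apply_apply, DFinsupp.sumAddHom_apply, DFinsupp.sum_eq_sum_fintype]
        · simp [Φ]
          exact Finset.sum_congr rfl fun _ _ => rfl
        · intro i; exact map_zero _
      intro f g hfg
      rw [h3, h3] at hfg
      exact (DFinsupp.linearEquivFunOnFintype (R := A)).symm.injective (h2 hfg)
    have hrange : LinearMap.range Φ = K q := by
      refine le_antisymm ?_ (iSup₂_le fun i hi y hy => ⟨Pi.single ⟨i, hi⟩ ⟨y, hy⟩, ?_⟩)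
      · rintro _ ⟨f, rfl⟩
        simp only [Φ, LinearMap.lsum_apply, LinearMap.coe_sum, Finset.sum_apply, LinearMap.comp_apply]
        exact Submodule.sum_mem _ fun i _ => Submodule.mem_iSup_of_mem i.1 (Submodule.mem_iSup_of_mem i.2 (f i).2)
      · simp only [Φ, LinearMap.lsum_piSingle]
        rfl
    exact h1.congr ((LinearEquiv.ofInjective Φ hΦ).trans (LinearEquiv.ofEq _ _ hrange))
  exact exists_colimit_of_monotone (Finset (I ⊕ J)) K hmono hcov hart

end Groth.Agent.InjArtColim
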